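import Groth.Agent.AffFibre.Basic
import Groth.Agent.FibreDimVar.Basic
import Mathlib

/-!
Dimension of schemes of finite type over a field via maps of dense opens to affine space.
-/

set_option autoImplicit false
set_option backward.isDefEq.respectTransparency false
universe u
open CategoryTheory CategoryTheory.Limits AlgebraicGeometry TopologicalSpace MvPolynomial

namespace Groth.Agent.DimAffSpace

variable (k : Type u) [Field k] {X : Scheme.{u}} (f : X ⟶ Spec (CommRingCat.of k))
  [LocallyOfFiniteType f]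

theorem exists_open_in_component [IsNoetherian X] (C : Set X) (hC : C ∈ irreducibleComponents ↥X) :
    ∃ O : Set X, IsOpen O ∧ O.Nonempty ∧ O ⊆ C ∧
      ∀ D ∈ irreducibleComponents ↥X, D ≠ C → Disjoint O D := by
  have hfin : (irreducibleComponents ↥X \ {C}).Finite :=
    (NoetherianSpace.finite_irreducibleComponents (α := ↥X)).subset Set.sdiff_subset
  refine ⟨(⋃₀ (irreducibleComponents ↥X \ {C}))ᶜ, ?_, ?_, ?_, ?_⟩
  · rw [Set.sUnion_eq_biUnion]
    exact (hfin.isClosed_biUnion fun D hD => isClosed_of_mem_irreducibleComponents D hD.1).isOpen_compl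
  · rw [Set.nonempty_compl]
    intro h
    obtain ⟨D, hD, hCD⟩ := isIrreducible_iff_sUnion_isClosed.mp hC.1 hfin.toFinset
      (fun D hD => isClosed_of_mem_irreducibleComponents D (Set.Finite.mem_toFinset _ |>.mp hD).1)
      (by rw [Set.Finite.coe_toFinset, h]; exact Set.subset_univ _)
    have hD' := (Set.Finite.mem_toFinset _).mp hD
    exact hD'.2 (Set.mem_singleton_iff.mpr (le_antisymm (hC.2 hD'.1.1 hCD) hCD))
  · intro z hz
    by_contra hzC
    exact hz ⟨_, ⟨irreducibleComponent_mem_irreducibleComponents z, fun h =>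
      hzC ((Set.mem_singleton_iff.mp h) ▸ mem_irreducibleComponent)⟩, mem_irreducibleComponent⟩
  · intro D hD hDC
    exact Set.disjoint_left.mpr fun z hz hzD => hz ⟨D, ⟨hD, hDC⟩, hzD⟩

include f in
theorem dim_dense_open [IsNoetherian X] (U : X.Opens) (hU : Dense (U : Set X)) :
    topologicalKrullDim ↥(U : Scheme.{u}) = topologicalKrullDim ↥X := by
  refine le_antisymm U.ι.isOpenEmbedding.isInducing.topologicalKrullDim_le ?_
  rw [← FibreDim.dim_homeo (Homeomorph.Set.univ ↥X)]
  refine FibreDimVar.dim_le_of_forall f isClosed_univ _ fun y _ => ?_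
  obtain ⟨η, hη⟩ := QuasiSober.sober (isIrreducible_irreducibleComponent (x := y)) isClosed_irreducibleComponent
  have hηy : η ⤳ y := hη.specializes mem_irreducibleComponent
  have hηU : η ∈ U := by
    obtain ⟨O, hO, hne, hsub, -⟩ :=
      exists_open_in_component _ (irreducibleComponent_mem_irreducibleComponents y)
    obtain ⟨z, hzO, hzU⟩ := hU.inter_open_nonempty O hO hne
    exact (hη.specializes (hsub hzO)).mem_open U.isOpen hzU
  refine le_trans (le_of_le_of_eq (b := FibreDim.fdim f η) ?_ rfl) ?_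
  · rw [EquidimFlat.fdim_eq_closure f y]
    exact (Topology.IsEmbedding.inclusion (closure_minimal
      (Set.singleton_subset_iff.mpr hηy.mem_closure) isClosed_closure)).isInducing.topologicalKrullDim_le.trans
      (EquidimFlat.fdim_eq_closure f η).ge
  · obtain ⟨a, b, c, ha, -, hc, hsum⟩ := EquidimFlat.fdim_comp U.ι f ⟨η, hηU⟩
    rw [show U.ι (⟨η, hηU⟩ : (U : Scheme.{u})) = η from rfl] at ha
    refine le_trans (b := ((c : ℕ) : WithBot ℕ∞)) (by rw [ha]; exact_mod_cast (show a ≤ c by omega)) ?_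
    rw [← hc]
    exact (FibreDimVar.fdim_le_dim (U.ι ≫ f) (Set.subset_univ _)).trans
      (FibreDim.dim_homeo (Homeomorph.Set.univ _)).le

theorem exists_dense_affine [IsNoetherian X] : ∃ U : X.Opens, Dense (U : Set X) ∧ IsAffineOpen U := by
  haveI := (NoetherianSpace.finite_irreducibleComponents (α := ↥X)).to_subtype
  choose O hO hne hsub hdisj using fun C : irreducibleComponents ↥X => exists_open_in_component C.1 C.2
  choose x hx using hne
  choose V hV hxV hVO using fun C => exists_isAffineOpen_mem_and_subset (U := (⟨O C, hO C⟩ : X.Opens)) (x := x C) (hx C)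
  refine ⟨⨆ C, V C, ?_, IsAffineOpen.iSup_of_disjoint hV fun C D hCD => ?_⟩
  · intro z
    have hC := irreducibleComponent_mem_irreducibleComponents z
    have h1 := subset_closure_inter_of_isPreirreducible_of_isOpen
      (isIrreducible_irreducibleComponent (x := z)).2 (V ⟨_, hC⟩).isOpen
      ⟨x ⟨_, hC⟩, hsub ⟨_, hC⟩ (hVO ⟨_, hC⟩ (hxV ⟨_, hC⟩)), hxV ⟨_, hC⟩⟩
    refine closure_mono (fun w hw => ?_) (h1 mem_irreducibleComponent)
    exact Opens.mem_iSup.mpr ⟨⟨_, hC⟩, hw.2⟩
  · show Disjoint (V C) (V D)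
    rw [disjoint_iff]
    ext z
    simp only [Opens.coe_inf, Set.mem_inter_iff, Opens.coe_bot, Set.mem_empty_iff_false, iff_false, not_and]
    intro hzC hzD
    exact Set.disjoint_left.mp (hdisj D C.1 C.2 fun h => hCD (Subtype.ext h)) (hVO D hzD) (hsub C (hVO C hzC))

/-- Maps of an affine scheme of finite type to affine `n`-space. -/
theorem exists_map {W : Scheme.{u}} [IsAffine W] [Nonempty ↥W] (p : W ⟶ Spec (CommRingCat.of k))
    [LocallyOfFiniteType p] :
    ∃ d : ℕ, topologicalKrullDim ↥W = (d : WithBot ℕ∞) ∧ ∀ n : ℕ,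
      ∃ g : W ⟶ 𝔸(ULift.{u} (Fin n); Spec (CommRingCat.of k)),
        g ≫ (𝔸(ULift.{u} (Fin n); Spec (CommRingCat.of k)) ↘ Spec (CommRingCat.of k)) = p ∧
        (d ≤ n → IsFinite g) ∧ (n ≤ d → Function.Surjective g.base) := by
  let φ : CommRingCat.of k ⟶ Γ(W, ⊤) := (Scheme.ΓSpecIso (CommRingCat.of k)).inv ≫ p.appTop
  have hp : W.isoSpec.inv ≫ p = Spec.map φ := by
    rw [Iso.inv_comp_eq, Spec.map_comp, Scheme.isoSpec_hom_naturality_assoc, Scheme.isoSpec_Spec_hom, ← Spec.map_comp]
    simp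
  have hft : φ.hom.FiniteType := by
    have h1 : LocallyOfFiniteType (Spec.map φ) := hp ▸ inferInstance
    exact (HasRingHomProperty.Spec_iff (P := @LocallyOfFiniteType)).1 h1
  haveI : Nontrivial Γ(W, ⊤) :=
    PrimeSpectrum.nonempty_iff_nontrivial.mp ⟨W.isoSpec.hom (Classical.arbitrary ↥W)⟩
  letI := φ.hom.toAlgebra
  haveI : Algebra.FiniteType k Γ(W, ⊤) := hft
  obtain ⟨d, ψ, hinj, hfin⟩ := exists_finite_inj_algHom_of_fg k Γ(W, ⊤)
  let ι := fun m : ℕ => ULift.{u} (Fin m)
  let S := fun m : ℕ => MvPolynomial (ι m) k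
  let π : ∀ a b : ℕ, S a →ₐ[k] S b := fun a b => aeval fun i =>
    if h : (i.down : ℕ) < b then MvPolynomial.X ⟨⟨i.down, h⟩⟩ else 0
  have hπ : ∀ a b, a ≤ b → (π b a).comp (π a b) = AlgHom.id k (S a) := fun a b hab => by
    refine MvPolynomial.algHom_ext fun i => ?_
    show (π b a) ((π a b) (X i)) = X i
    simp only [π]
    rw [aeval_X, dif_pos (lt_of_lt_of_le i.down.isLt hab), aeval_X, dif_pos i.down.isLt]
  let ψ' : S d →ₐ[k] Γ(W, ⊤) := ψ.comp (renameEquiv k Equiv.ulift.{u, 0}).toAlgHom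
  have hinj' : Function.Injective ψ' := hinj.comp (AlgEquiv.injective _)
  have hfin' : ψ'.toRingHom.Finite :=
    hfin.comp (RingHom.Finite.of_surjective _ (renameEquiv k Equiv.ulift.{u, 0}).surjective)
  let G : ∀ n : ℕ, W ⟶ 𝔸(ι n; Spec (CommRingCat.of k)) := fun n =>
    W.isoSpec.hom ≫ Spec.map (CommRingCat.ofHom (ψ'.comp (π n d)).toRingHom) ≫
      (AffineSpace.SpecIso (ι n) (CommRingCat.of k)).inv
  have hover : ∀ n, G n ≫ (𝔸(ι n; Spec (CommRingCat.of k)) ↘ Spec (CommRingCat.of k)) = p := fun n => by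
    simp only [G, Category.assoc, AffineSpace.SpecIso_inv_over]
    rw [← Spec.map_comp, ← Iso.eq_inv_comp, hp]
    congr 1
    ext c
    exact (ψ'.comp (π n d)).commutes c
  have hψs : Function.Surjective (Spec.map (CommRingCat.ofHom ψ'.toRingHom)).base := by
    letI := ψ'.toRingHom.toAlgebra
    haveI : Module.Finite (S d) Γ(W, ⊤) := hfin'
    haveI : FaithfulSMul (S d) Γ(W, ⊤) := (faithfulSMul_iff_algebraMap_injective _ _).2 hinj'
    exact Algebra.IsIntegral.comap_surjective _ _
  have hsur : ∀ n, n ≤ d → Function.Surjective (G n).base := fun n hn => by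
    refine (AffineSpace.SpecIso (ι n) (CommRingCat.of k)).inv.homeomorph.surjective.comp
      (Function.Surjective.comp ?_ W.isoSpec.hom.homeomorph.surjective)
    have h2 : Function.Surjective (PrimeSpectrum.comap (π n d).toRingHom) := fun P =>
      ⟨PrimeSpectrum.comap (π d n).toRingHom P, by
        rw [← PrimeSpectrum.comap_comp_apply]
        have : (π d n).toRingHom.comp (π n d).toRingHom = RingHom.id _ :=
          congrArg AlgHom.toRingHom (hπ n d hn)
        rw [this]; rfl⟩
    exact h2.comp hψs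
  have hfinG : ∀ n, d ≤ n → IsFinite (G n) := fun n hn => by
    haveI : IsFinite (Spec.map (CommRingCat.ofHom (ψ'.comp (π n d)).toRingHom)) :=
      (IsFinite.SpecMap_iff _).2 (hfin'.comp (RingHom.Finite.of_surjective _ fun z =>
        ⟨π d n z, AlgHom.congr_fun (hπ d n hn) z⟩))
    exact inferInstance
  refine ⟨d, ?_, fun n => ⟨G n, hover n, hfinG n, hsur n⟩⟩
  haveI := hfinG d le_rfl
  rw [(DimMaps.dim_finite (G d)).2 (hsur d le_rfl)]
  exact AffFibre.dim_affineSpace k d

end Groth.Agent.DimAffSpace
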